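import Groth.Prelude.Def_Curv2
import Mathlib

/-! The base change to the completion at a point of the closed fibre. -/

universe u

set_option autoImplicit false

open CategoryTheory CategoryTheory.Limits AlgebraicGeometry IsLocalRing TensorProduct

namespace Groth.Agent.CplRegular

/-- A ring map carries the maximal ideal onto the maximal ideal. -/
def MapMax {R S : CommRingCat.{u}} [IsLocalRing R] [IsLocalRing S] (g : R ⟶ S) : Prop :=
  (maximalIdeal R).map g.hom = maximalIdeal S

theorem mapMax_of_iso {R S R' S' : CommRingCat.{u}} [IsLocalRing R] [IsLocalRing S] [IsLocalRing R'] [IsLocalRing S']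
    (g : R ⟶ S) (g' : R' ⟶ S') (a : R ≅ R') (b : S ≅ S') (h : a.hom ≫ g' = g ≫ b.hom) (hg : MapMax g) :
    MapMax g' := by
  have ha : (maximalIdeal R).map a.hom.hom = maximalIdeal R' :=
    eq_maximalIdeal (Ideal.map_isMaximal_of_equiv a.commRingCatIsoToRingEquiv)
  have hb : (maximalIdeal S).map b.hom.hom = maximalIdeal S' :=
    eq_maximalIdeal (Ideal.map_isMaximal_of_equiv b.commRingCatIsoToRingEquiv)
  show (maximalIdeal R').map g'.hom = _
  rw [← ha, Ideal.map_map, ← CommRingCat.hom_comp, h, CommRingCat.hom_comp, ← Ideal.map_map,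
    show (maximalIdeal R).map g.hom = maximalIdeal S from hg, hb]

theorem mapMax_Spec {B T : CommRingCat.{u}} (φ : B ⟶ T) (Q : PrimeSpectrum T)
    (hQ : Q.asIdeal = (Q.asIdeal.comap φ.hom).map φ.hom) : MapMax ((Spec.map φ).stalkMap Q) := by
  let e := Scheme.arrowStalkMapSpecIso φ Q
  let p : PrimeSpectrum B := PrimeSpectrum.comap φ.hom Q
  let r := Localization.localRingHom p.asIdeal Q.asIdeal φ.hom rfl
  have hg : MapMax (CommRingCat.ofHom r) := by
    show (maximalIdeal _).map r = maximalIdeal _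
    rw [← Localization.AtPrime.map_eq_maximalIdeal, ← Localization.AtPrime.map_eq_maximalIdeal, Ideal.map_map,
      show r.comp (algebraMap B (Localization.AtPrime p.asIdeal)) =
          (algebraMap T (Localization.AtPrime Q.asIdeal)).comp φ.hom from
        RingHom.ext fun x => Localization.localRingHom_to_map _ _ _ rfl x,
      ← Ideal.map_map]
    exact congrArg (fun I => Ideal.map (algebraMap T (Localization.AtPrime Q.asIdeal)) I) hQ.symm
  exact mapMax_of_iso (R := CommRingCat.of (Localization.AtPrime p.asIdeal))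
    (S := CommRingCat.of (Localization.AtPrime Q.asIdeal)) (CommRingCat.ofHom r) ((Spec.map φ).stalkMap Q)
    (Arrow.leftFunc.mapIso e).symm (Arrow.rightFunc.mapIso e).symm e.inv.w hg

variable (A : Type u) [CommRing A] [IsLocalRing A] [IsNoetherianRing A]

theorem tensor_prime (B : Type u) [CommRing B] [Algebra A B] (Q : Ideal (B ⊗[A] Curv2.cpl A))
    (hA : (maximalIdeal A).map (algebraMap A B) ≤
      Q.comap (Algebra.TensorProduct.includeLeftRingHom : B →+* B ⊗[A] Curv2.cpl A)) :
    Q = (Q.comap (Algebra.TensorProduct.includeLeftRingHom : B →+* B ⊗[A] Curv2.cpl A)).map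
      (Algebra.TensorProduct.includeLeftRingHom : B →+* B ⊗[A] Curv2.cpl A) := by
  set ι := (Algebra.TensorProduct.includeLeftRingHom : B →+* B ⊗[A] Curv2.cpl A)
  refine le_antisymm (fun z hz => ?_) Ideal.map_comap_le
  let C := Curv2.cpl A
  have hker : ∀ c : C, ∃ a : A, c - algebraMap A C a ∈ (maximalIdeal A).map (algebraMap A C) := by
    intro c
    obtain ⟨a, ha⟩ := Submodule.Quotient.mk_surjective _ (AdicCompletion.eval (maximalIdeal A) A 1 c)
    refine ⟨a, ?_⟩
    have h0 : AdicCompletion.eval (maximalIdeal A) A 1 (c - algebraMap A C a) = 0 := by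
      rw [map_sub, sub_eq_zero, ← ha]
      rfl
    rw [← LinearMap.mem_ker, ← AdicCompletion.pow_smul_top_eq_ker_eval (IsNoetherian.noetherian _), pow_one,
      Ideal.smul_top_eq_map] at h0
    exact h0
  have hm : ∀ (x : B) (c : C), c ∈ (maximalIdeal A).map (algebraMap A C) → x ⊗ₜ[A] c ∈ (Q.comap ι).map ι := by
    intro x c hc
    refine Submodule.span_induction (p := fun y _ => ∀ x : B, x ⊗ₜ[A] y ∈ (Q.comap ι).map ι) ?_ ?_ ?_ ?_ hc x
    · rintro _ ⟨a, ha, rfl⟩ x
      rw [show x ⊗ₜ[A] algebraMap A C a = ι (algebraMap A B a * x) by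
        show x ⊗ₜ[A] algebraMap A C a = (algebraMap A B a * x) ⊗ₜ[A] (1 : C)
        rw [← Algebra.smul_def, Algebra.algebraMap_eq_smul_one, TensorProduct.smul_tmul]]
      exact Ideal.mem_map_of_mem _ (Ideal.mul_mem_right _ _ (hA (Ideal.mem_map_of_mem _ ha)))
    · intro x
      rw [TensorProduct.tmul_zero]
      exact zero_mem _
    · intro y y' _ _ h h' x
      rw [TensorProduct.tmul_add]
      exact add_mem (h x) (h' x)
    · intro r y _ h x
      rw [smul_eq_mul, show x ⊗ₜ[A] (r * y) = ((1 : B) ⊗ₜ[A] r) * (x ⊗ₜ[A] y) by simp]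
      exact Ideal.mul_mem_left _ _ (h x)
  obtain ⟨b, hb⟩ : ∃ b : B, z - ι b ∈ (Q.comap ι).map ι := by
    clear hz
    induction z using TensorProduct.induction_on with
    | zero => exact ⟨0, by simp⟩
    | tmul x c =>
      obtain ⟨a, ha⟩ := hker c
      refine ⟨a • x, ?_⟩
      rw [show x ⊗ₜ[A] c - ι (a • x) = x ⊗ₜ[A] (c - algebraMap A C a) by
        rw [TensorProduct.tmul_sub, Algebra.algebraMap_eq_smul_one, ← TensorProduct.smul_tmul]; rfl]
      exact hm _ _ ha
    | add x y hx hy =>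
      obtain ⟨b, hb⟩ := hx
      obtain ⟨b', hb'⟩ := hy
      exact ⟨b + b', by rw [map_add, add_sub_add_comm]; exact add_mem hb hb'⟩
  have hbQ : ι b ∈ Q := by
    have := Q.sub_mem hz (Ideal.map_comap_le hb)
    rwa [sub_sub_cancel] at this
  simpa using add_mem hb (Ideal.mem_map_of_mem ι (show b ∈ Q.comap ι from hbQ))

theorem mapMax_fst {X : Scheme.{u}} (f : X ⟶ Spec (CommRingCat.of A)) (y : Curv2.bcCpl A f)
    (hy : f ((Curv2.bcCplFst A f) y) = closedPoint A) : MapMax ((Curv2.bcCplFst A f).stalkMap y) := by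
  let x := (Curv2.bcCplFst A f) y
  let R := Γ(X, (exists_isAffineOpen_mem_and_subset (X := X) (x := x) (U := ⊤) trivial).choose)
  obtain ⟨hU, hxU, -⟩ := (exists_isAffineOpen_mem_and_subset (X := X) (x := x) (U := ⊤) trivial).choose_spec
  let j := hU.fromSpec
  obtain ⟨P, hP⟩ : x ∈ Set.range j := by rw [hU.range_fromSpec]; exact hxU
  obtain ⟨φ, hφ⟩ := Spec.map_surjective (j ≫ f)
  algebraize [φ.hom]
  let C := Curv2.cpl A
  let c := Spec.map (CommRingCat.ofHom (algebraMap A C))
  let ι : CommRingCat.of R ⟶ CommRingCat.of (R ⊗[A] C) := CommRingCat.ofHom Algebra.TensorProduct.includeLeftRingHom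
  let e : Spec (CommRingCat.of (R ⊗[A] C)) ⟶ Curv2.bcCpl A f :=
    (pullbackSpecIso A R C).inv ≫ pullback.map (Spec.map φ) c f c j (𝟙 _) (𝟙 _) (by rw [Category.comp_id, hφ]) (by simp)
  haveI : IsOpenImmersion e := inferInstanceAs (IsOpenImmersion ((pullbackSpecIso A R C).inv ≫ _))
  have he : e ≫ Curv2.bcCplFst A f = Spec.map ι ≫ j := by
    rw [Category.assoc, pullback.lift_fst, ← Category.assoc]
    congr 1
    exact pullbackSpecIso_inv_fst A R C
  have hy' : y ∈ Set.range e := by
    rw [Scheme.Hom.comp_base, TopCat.coe_comp, Set.range_comp, Set.range_eq_univ.mpr ((pullbackSpecIso A R C).inv.surjective),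
      Set.image_univ, Scheme.Pullback.range_map]
    exact ⟨⟨P, hP⟩, ⟨_, rfl⟩⟩
  obtain ⟨Q, hQy⟩ := hy'
  rw [← hQy] at hy ⊢
  have hQ : (maximalIdeal A).map (algebraMap A R) ≤
      (Q : PrimeSpectrum (R ⊗[A] C)).asIdeal.comap (Algebra.TensorProduct.includeLeftRingHom : R →+* R ⊗[A] C) := by
    have h1 : f (j (Spec.map ι Q)) = closedPoint A := by
      rw [← Scheme.Hom.comp_apply (Spec.map ι) j, ← he, Scheme.Hom.comp_apply]
      exact hy
    rw [← Scheme.Hom.comp_apply j f, ← hφ] at h1
    rw [Ideal.map_le_iff_le_comap]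
    exact (congrArg PrimeSpectrum.asIdeal h1).ge
  have hmm : MapMax ((Spec.map ι).stalkMap Q) := mapMax_Spec ι Q (tensor_prime A R _ hQ)
  have key : MapMax ((e ≫ Curv2.bcCplFst A f).stalkMap Q) := by
    have : MapMax ((Spec.map ι ≫ j).stalkMap Q) := by
      refine mapMax_of_iso _ _ (asIso (j.stalkMap (Spec.map ι Q))).symm (Iso.refl _) ?_ hmm
      rw [Scheme.Hom.stalkMap_comp]
      simp
    exact mapMax_of_iso _ _ ((X.presheaf.stalkCongr (.of_eq (by rw [he])))) (Iso.refl _)
      (by rw [Scheme.Hom.stalkMap_congr_hom _ _ he Q]; simp) this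
  refine mapMax_of_iso _ _ (Iso.refl _) (asIso (e.stalkMap Q)).symm ?_ key
  rw [Scheme.Hom.stalkMap_comp]
  simp

end Groth.Agent.CplRegular
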