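import Groth.Agent.CplRegular.Stalk
import Groth.Agent.FlatLoc6.Rk
import Groth.Agent.FlatLoc6.Cpl
import Groth.Agent.RegBlow6.Regular
import Groth.Agent.S0565

/-! Regularity and base change to the completion. -/

universe u

set_option autoImplicit false
set_option linter.style.haveILetI false

open CategoryTheory CategoryTheory.Limits AlgebraicGeometry IsLocalRing

namespace Groth.Agent.CplRegular

variable (A : Type u) [CommRing A] [IsLocalRing A] [IsNoetherianRing A] {X : Scheme.{u}}
  (f : X ⟶ Spec (CommRingCat.of A))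

theorem closedPoint_over : Spec.map (CommRingCat.ofHom (algebraMap A (Curv2.cpl A))) (closedPoint (Curv2.cpl A)) =
    closedPoint A := by
  refine PrimeSpectrum.ext ?_
  show (maximalIdeal (Curv2.cpl A)).comap (algebraMap A (Curv2.cpl A)) = maximalIdeal A
  refine (IsLocalRing.le_maximalIdeal (Ideal.IsPrime.ne_top inferInstance)).antisymm fun a ha => ?_
  refine Ideal.mem_comap.mpr ((IsLocalRing.mem_maximalIdeal _).mpr fun hu => ?_)
  have h1 : Ideal.Quotient.mk (maximalIdeal A) a = 0 := Ideal.Quotient.eq_zero_iff_mem.mpr ha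
  have h2 := hu.map (AdicCompletion.evalOneₐ (maximalIdeal A))
  rw [AlgHom.commutes] at h2
  exact h2.ne_zero h1

theorem regular_iff [LocallyOfFiniteType f] (y : Curv2.bcCpl A f)
    (hy : f ((Curv2.bcCplFst A f) y) = closedPoint A) :
    IsRegularLocalRing ((Curv2.bcCpl A f).presheaf.stalk y) ↔
      IsRegularLocalRing (X.presheaf.stalk ((Curv2.bcCplFst A f) y)) := by
  have hmm := mapMax_fst A f y hy
  let R := X.presheaf.stalk ((Curv2.bcCplFst A f) y)
  let S := (Curv2.bcCpl A f).presheaf.stalk y
  haveI : IsNoetherianRing (Curv2.cpl A) := FlatLoc6.isNoetherianRing_cpl (A := A)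
  haveI : IsLocallyNoetherian X := LocallyOfFiniteType.isLocallyNoetherian f
  haveI : LocallyOfFiniteType (Curv2.bcCplSnd A f) := MorphismProperty.pullback_snd _ _ inferInstance
  haveI : IsLocallyNoetherian (Curv2.bcCpl A f) := LocallyOfFiniteType.isLocallyNoetherian (Curv2.bcCplSnd A f)
  haveI : Flat (Spec.map (CommRingCat.ofHom (algebraMap A (Curv2.cpl A)))) := by
    rw [HasRingHomProperty.Spec_iff (P := @Flat)]
    exact RingHom.flat_algebraMap_iff.mpr (AdicCompletion.flat_of_isNoetherian _)
  haveI : Flat (Curv2.bcCplFst A f) := MorphismProperty.pullback_fst _ _ inferInstance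
  have hfl := Flat.stalkMap (Curv2.bcCplFst A f) y
  algebraize [((Curv2.bcCplFst A f).stalkMap y).hom]
  haveI : IsLocalHom (algebraMap R S) := (Curv2.bcCplFst A f).toLRSHom.prop y
  haveI : Module.Flat R S := hfl
  constructor
  · intro h
    haveI : IsRegularLocalRing S := h
    exact Groth.Agent.S0565.result R S
  · intro h
    haveI : IsRegularLocalRing R := h
    refine FlatLoc6.isRegularLocalRing_of_flat_fibre (A := R) (B := S) ?_
    have e : (maximalIdeal R).map (algebraMap R S) = maximalIdeal S := hmm
    rw [e]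
    letI := Ideal.Quotient.field (maximalIdeal S)
    infer_instance

theorem regular_all_iff [IsProper f] :
    (∀ x : X, IsRegularLocalRing (X.presheaf.stalk x)) ↔
      ∀ y : Curv2.bcCpl A f, IsRegularLocalRing ((Curv2.bcCpl A f).presheaf.stalk y) := by
  haveI : IsProper (Curv2.bcCplSnd A f) := MorphismProperty.pullback_snd _ _ ‹IsProper f›
  have hover : ∀ z : Curv2.bcCpl A f, (Curv2.bcCplSnd A f) z = closedPoint (Curv2.cpl A) →
      f ((Curv2.bcCplFst A f) z) = closedPoint A := fun z hz => by
    rw [← Scheme.Hom.comp_apply, pullback.condition, Scheme.Hom.comp_apply]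
    exact (congrArg _ hz).trans (closedPoint_over A)
  constructor
  · intro h y
    obtain ⟨z, hzy, hz⟩ : ∃ z, y ⤳ z ∧ (Curv2.bcCplSnd A f) z = closedPoint (Curv2.cpl A) := by
      obtain ⟨z, hz, hzc⟩ := ((Curv2.bcCplSnd A f).isClosedMap (closure ({y} : Set _)) isClosed_closure).stableUnderSpecialization
        (IsLocalRing.specializes_closedPoint (R := Curv2.cpl A) ((Curv2.bcCplSnd A f) y)) ⟨y, subset_closure rfl, rfl⟩
      exact ⟨z, specializes_iff_mem_closure.mpr hz, hzc⟩
    haveI := (regular_iff A f z (hover z hz)).mpr (h _)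
    exact RegBlow6.isRegularLocalRing_of_specializes hzy
  · intro h x
    obtain ⟨x', hx, hxc⟩ := (f.isClosedMap (closure ({x} : Set X)) isClosed_closure).stableUnderSpecialization
      (IsLocalRing.specializes_closedPoint (R := A) (f x)) ⟨x, subset_closure rfl, rfl⟩
    obtain ⟨z, hz, -⟩ := Scheme.Pullback.exists_preimage_pullback (f := f)
      (g := Spec.map (CommRingCat.ofHom (algebraMap A (Curv2.cpl A)))) x' (closedPoint (Curv2.cpl A))
      (hxc.trans (closedPoint_over A).symm)
    haveI : IsRegularLocalRing (X.presheaf.stalk x') := by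
      subst hz
      exact (regular_iff A f z hxc).mp (h z)
    exact RegBlow6.isRegularLocalRing_of_specializes (specializes_iff_mem_closure.mpr hx)

end Groth.Agent.CplRegular
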